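import Cfsg.Agent.H623.Rg.KillTwo
import Cfsg.Agent.H119.Rg.Opp

/-!
# S3691 (T15): `kill_two`
-/

set_option autoImplicit false
set_option linter.unusedSectionVars false

namespace Cfsg.Agent.H623.Rg

open Module QuadraticMap Cfsg Cfsg.Geo Cfsg.Agent.LieClassical.OrthCore Cfsg.Agent.LieClassical.OrthTrans
  Cfsg.Agent.H454.Reg Cfsg.Agent.H884.El Cfsg.Agent.H955 Cfsg.Agent.H954.TSing Cfsg.Agent.H193.Dg Cfsg.Agent.H851.Dg
  Cfsg.Agent.H449.Reg Cfsg.Agent.H964.Rg
open Cfsg.Agent.H951 (fx cm Inv)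
open Cfsg.Agent.H278.Cov (Red Ext Num)
open Cfsg.Agent.LieClassical.OrthFinite (glEquiv glEquiv_apply)
open scoped MatrixGroups Matrix

universe u v

section cx

variable {ι : Type} [Fintype ι] [DecidableEq ι] {F : Type v} [Field F] [Fintype F] {Q : QuadraticForm F (ι → F)}
variable {G : Type u} [Group G] [Finite G] {T : Subgroup G} [T.Normal] {hG : Good Q} {eT : T ≃* POmega F (⇑Q)}
  {hI : Ind (eP hG eT)} {X Y : Subgroup G} {p f m N : ℕ}

/-- (T15) a factor containing the full `r`-part, `ord_r(q)` odd, normalises no quadratic field -/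
theorem kill_two (hf : Fac T X Y) (hD : H390.Lift.Data Q) {e r : ℕ} (he : Odd e) (he3 : 3 ≤ e)
    (hen : 2 * e < Fintype.card ι) (hev : Even (Fintype.card ι)) (hr : PP (Nat.card F) e r)
    (ho : ¬ r ∣ Nat.card (Cfsg.Out T)) (hX : ¬ r ∣ Nat.card (X.subgroupOf T))
    {K : Subalgebra F (Matrix ι ι F)} (hK : IsFieldSubalgebra 2 K) (hle : preG eT Y ≤ subalgebraNormalizer K) : False :=
  kill_two_of (fun x hx => hD.nd.1 x fun y => hx y) he he3 hen hev hr (fun g hg hgr =>
    H119.Rg.full_conj hf hD hr.prime (by have := hr.lt (by omega); omega) ho hX hg hgr) hK hle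

end cx

end Cfsg.Agent.H623.Rg
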