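import Cfsg.Agent.H964.Rg.Ctx

/-!
# S3691 (T15): a factor containing all elements of a prime order `r`, `ord_r(q)` odd, normalises no quadratic field

* `no_quadratic'` : `J` commutes with an isometry with commutator space of dimension `2 e`, `e` odd;
* `kill_two_of` : the result, from `full_conj` as hypothesis.
-/

set_option autoImplicit false
set_option linter.unusedSectionVars false

namespace Cfsg.Agent.H623.Rg

open Module QuadraticMap Cfsg Cfsg.Geo Cfsg.Agent.LieClassical.OrthCore Cfsg.Agent.LieClassical.OrthTrans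
  Cfsg.Agent.H454.Reg Cfsg.Agent.H884.El Cfsg.Agent.H955 Cfsg.Agent.H954.TSing Cfsg.Agent.H193.Dg Cfsg.Agent.H851.Dg
  Cfsg.Agent.H449.Reg
open Cfsg.Agent.H951 (fx cm Inv)
open Cfsg.Agent.H278.Cov (Red Ext Num)
open Cfsg.Agent.LieClassical.OrthFinite (glEquiv glEquiv_apply)
open scoped MatrixGroups Matrix

universe u v

section Abs

variable {F : Type u} [Field F] [Fintype F] {V : Type v} [AddCommGroup V] [Module F V] [FiniteDimensional F V]
  {Q : QuadraticForm F V} {x : Module.End F V} {r e : ℕ}

/-- `J` commutes with an isometry whose commutator space is a sum of two odd-dimensional irreducible totally singular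
subspaces: impossible if `J` generates a quadratic field. -/
theorem no_quadratic' (h : Iso Q x r) (hQ : Nondeg Q) (hr : PP (Nat.card F) e r) (he : Odd e)
    (he1 : 3 ≤ e) (hcm : finrank F (cm x) = 2 * e) {J : Module.End F V}
    (hJx : ∀ v, J (x v) = x (J v)) (heven : ∀ W : Submodule F V, (∀ w ∈ W, J w ∈ W) → Even (finrank F W)) : False := by
  have hprime := Fact.mk h.prime
  have hfin : Finite V := Module.finite_of_finite F
  have ho : Odd (orderOf (Fintype.card F : ZMod r)) := by rw [ord_eq hr]; exact he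
  obtain ⟨W, hWcm, hW, hWs, hWd⟩ : ∃ W ≤ cm x, Inv x W ∧ TS Q W ∧ finrank F W = e := by
    obtain ⟨W, hWU, hW, hWs, hd⟩ := exists_ts_half h.iso hprime h.two_lt h.ne0 h.pow H951.inv_cm
      (nondeg_cm hQ h.iso h.ne0 h.pow) (by
        rw [inf_comm]; exact (H951.isCompl_fx_cm h.ne0 h.pow).inf_eq_bot) ho
    exact ⟨W, hWU, hW, hWs, by omega⟩
  have hWne : W ≠ ⊥ := by
    rintro rfl
    rw [finrank_bot] at hWd
    omega
  -- `W` is irreducible
  have hirr : ∀ U : Submodule F V, U ≤ W → Inv x U → U = ⊥ ∨ U = W := by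
    intro U hU hUi
    have h1 := h.dvd hr hUi
    rw [inf_eq_left.2 (hU.trans hWcm)] at h1
    have h2 := Submodule.finrank_mono hU
    rcases Nat.eq_zero_or_pos (finrank F U) with h0 | h0
    · exact Or.inl (Submodule.finrank_eq_zero.1 h0)
    · right
      have := Nat.le_of_dvd h0 h1
      exact Submodule.eq_of_le_of_finrank_eq hU (by omega)
  by_cases hJW : ∀ w ∈ W, J w ∈ W
  · have h1 := heven W hJW
    rw [hWd] at h1
    exact (Nat.not_even_iff_odd.2 he) h1
  · -- the form `polar u (J v)`
    let c : LinearMap.BilinForm F V := LinearMap.BilinForm.comp (polarBilin Q) LinearMap.id J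
    have hc : ∀ u v, c u v = polar Q u (J v) := fun u v => rfl
    have hinv : ∀ u v, c (x u) (x v) = c u v := by
      intro u v
      rw [hc, hc, hJx, polar_isom h.iso]
    have hnd : ∀ v ∈ W, (∀ u ∈ W, c u v = 0) → v = 0 := by
      let N : Submodule F V :=
        { carrier := {v | v ∈ W ∧ ∀ u ∈ W, c u v = 0}
          add_mem' := fun {a b} ha hb => ⟨W.add_mem ha.1 hb.1, fun u hu => by
            rw [map_add, ha.2 u hu, hb.2 u hu, add_zero]⟩
          zero_mem' := ⟨W.zero_mem, fun u _ => map_zero _⟩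
          smul_mem' := fun a v hv => ⟨W.smul_mem a hv.1, fun u hu => by
            rw [map_smul, hv.2 u hu, smul_zero]⟩ }
      have hNW : N ≤ W := fun v hv => hv.1
      have hNi : Inv x N := by
        rintro v ⟨hv, hv2⟩
        refine ⟨hW v hv, fun u hu => ?_⟩
        -- `u = x u'`
        obtain ⟨u', hu', rfl⟩ : ∃ u' ∈ W, x u' = u := by
          refine ⟨(x ^ (r - 1)) u, hW.pow _ u hu, ?_⟩
          rw [← Module.End.mul_apply, ← pow_succ', Nat.sub_add_cancel h.prime.one_le, h.pow]
          rfl
        rw [hinv]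
        exact hv2 u' hu'
      rcases hirr N hNW hNi with hN | hN
      · intro v hv hv2
        have : v ∈ N := ⟨hv, hv2⟩
        rw [hN] at this
        exact (Submodule.mem_bot F).1 this
      · exfalso
        apply hJW
        -- `J W` lies in the perp of `W` inside `cm x`
        have hperp : ∀ w ∈ W, ∀ u ∈ W, polar Q u (J w) = 0 := by
          intro w hw u hu
          rw [← hN] at hw
          exact hw.2 u hu
        have hJcm : ∀ w ∈ W, J w ∈ cm x := by
          intro w hw
          obtain ⟨y, hy⟩ := H951.mem_cm.1 (hWcm hw)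
          refine H951.mem_cm.2 ⟨J y, ?_⟩
          rw [← hJx, ← map_sub, hy]
        have hcmn := nondeg_cm hQ h.iso h.ne0 h.pow
        have h1 := finrank_inf_perp hcmn hWcm
        have h2 : W ≤ cm x ⊓ perp Q W := by
          intro w hw
          exact ⟨hWcm hw, fun u hu => hWs.polar hu hw⟩
        have h3 : W = cm x ⊓ perp Q W := by
          apply Submodule.eq_of_le_of_finrank_eq h2
          omega
        intro w hw
        rw [h3]
        exact ⟨hJcm w hw, fun u hu => hperp w hw u hu⟩
    have h2 : r ≠ 2 := by have := h.two_lt; omega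
    have hev := H200.LinFix.even_of_irr (l := r) h2 h.ne0 (y := x) h.pow (W := W) hWcm hW
      (fun s hs hi => hirr s hs hi) hWne c (fun u _ v _ => hinv u v) hnd
    rw [hWd] at hev
    exact (Nat.not_even_iff_odd.2 he) hev

end Abs

section cx

variable {ι : Type} [Fintype ι] [DecidableEq ι] {F : Type v} [Field F] [Fintype F] {Q : QuadraticForm F (ι → F)}

/-- a group of isometries containing an isometry `g` of order `r` with commutator space of dimension `2 e`, `e = ord_r(q)` odd,
normalises no quadratic field -/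
theorem no_field (hQ : Nondeg Q) {H : Subgroup (GL ι F)} {e r : ℕ} (he : Odd e) (he3 : 3 ≤ e)
    (hr : PP (Nat.card F) e r) (hH : H ≤ isometryGroup F (⇑Q)) {g : GL ι F} (hg : g ∈ H) (hgr : g ^ r = 1)
    (hcm : finrank F (cm (lin g)) = 2 * e)
    {K : Subalgebra F (Matrix ι ι F)} (hK : IsFieldSubalgebra 2 K) (hle : H ≤ subalgebraNormalizer K) : False := by
  have hne : Nonempty ι := by
    by_contra h
    rw [not_nonempty_iff] at h
    have h1 := Submodule.finrank_le (cm (lin g))
    rw [finrank_V, Fintype.card_eq_zero] at h1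
    omega
  have hx : lin g ^ r = 1 := by rw [← H251.GeoCard.toLin_pow, hgr]; exact lin_one
  have hiso : Iso Q (lin g) r := Iso.mk' hr (by omega) hx (lin_iso hH hg)
  have hr2 : r ≠ 2 := by have := hiso.two_lt; omega
  have hcomm := comm_field Nat.prime_two hK (hle hg) hr.prime hr2 hgr
  obtain ⟨J, hJK, hJ, hgen⟩ := Cfsg.Agent.H884.HermGL.exists_gen hK
  refine no_quadratic' hiso hQ hr he he3 hcm (J := Matrix.toLin' J) ?_ ?_
  · intro v
    rw [lin, Matrix.toLin'_apply, Matrix.toLin'_apply, Matrix.toLin'_apply, Matrix.toLin'_apply,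
      Matrix.mulVec_mulVec, Matrix.mulVec_mulVec, hcomm J hJK]
  · intro W hW
    refine even_of_field hK fun k hk w hw => ?_
    obtain ⟨s, t, rfl⟩ := hgen k hk
    rw [Matrix.add_mulVec, Matrix.smul_mulVec, Matrix.smul_mulVec, Matrix.one_mulVec]
    refine W.add_mem (W.smul_mem _ hw) (W.smul_mem _ ?_)
    have := hW w hw
    rwa [Matrix.toLin'_apply] at this

variable {G : Type u} [Group G] [Finite G] {T : Subgroup G} [T.Normal] {hG : Good Q} {eT : T ≃* POmega F (⇑Q)}
  {hI : Ind (eP hG eT)} {X Y : Subgroup G} {p f m N : ℕ}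

/-- (T15) from `full_conj` -/
theorem kill_two_of (hQ : Nondeg Q) {e r : ℕ} (he : Odd e) (he3 : 3 ≤ e)
    (hen : 2 * e < Fintype.card ι) (hev : Even (Fintype.card ι)) (hr : PP (Nat.card F) e r)
    (hfull : ∀ g : GL ι F, g ∈ isometryGroup F (⇑Q) → g ^ r = 1 → ∃ c : GL ι F, c * g * c⁻¹ ∈ preG eT Y)
    {K : Subalgebra F (Matrix ι ι F)} (hK : IsFieldSubalgebra 2 K) (hle : preG eT Y ≤ subalgebraNormalizer K) : False := by
  obtain ⟨g, hg, hgr, hg1, hgd⟩ := exists_g_odd (A := 1) hQ hr he (by omega) le_rfl (Or.inl ⟨hev, Or.inl (by omega)⟩)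
  obtain ⟨c, hc⟩ := hfull g hg hgr
  refine no_field hQ he he3 hr preG_le hc (by rw [conj_pow, hgr, mul_one, mul_inv_cancel]) ?_ hK hle
  rw [finrank_cm_conj, hgd, mul_one]

end cx

end Cfsg.Agent.H623.Rg
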